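import Mathlib
import Cfsg.Agent.Helper96.StC.Defs

/-!
# `Sp_6(2)` and the Coxeter group `W(E_7)`: explicit data (generated by a script)

Seven transvections `Tm 0, …, Tm 6` of `Sp_6(ZMod 2)` whose vectors have the Gram matrix of the
`E_7` diagram (Mathlib's numbering `CoxeterMatrix.E₇`), with
* the Coxeter relations,
* every root matrix `spM p q 1` of type `C_3` as a word in the `Tm i`,
* for every pair `i < j` of non-adjacent nodes a word `g` with `g * Tm i = Tm 0 * g` and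
  `g * Tm j = Tm 1 * g`.
All proofs are kernel computations (`decide +kernel`) with `6 × 6` matrices over `ZMod 2`.
-/

set_option autoImplicit false
set_option maxRecDepth 100000

namespace Cfsg.Agent.Helper96.E7

open Cfsg.Agent.Helper96.StC

/-- the index type of `Sp_6` -/
abbrev I6 := Fin 3 ⊕ Fin 3

/-- the transvection in the vector `000001` -/
def T0 : Matrix I6 I6 (ZMod 2) :=
  Matrix.fromBlocks !![1, 0, 0; 0, 1, 0; 0, 0, 1] !![0, 0, 0; 0, 0, 0; 0, 0, 0]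
    !![0, 0, 0; 0, 0, 0; 0, 0, 1] !![1, 0, 0; 0, 1, 0; 0, 0, 1]

/-- the transvection in the vector `000010` -/
def T1 : Matrix I6 I6 (ZMod 2) :=
  Matrix.fromBlocks !![1, 0, 0; 0, 1, 0; 0, 0, 1] !![0, 0, 0; 0, 0, 0; 0, 0, 0]
    !![0, 0, 0; 0, 1, 0; 0, 0, 0] !![1, 0, 0; 0, 1, 0; 0, 0, 1]

/-- the transvection in the vector `001000` -/
def T2 : Matrix I6 I6 (ZMod 2) :=
  Matrix.fromBlocks !![1, 0, 0; 0, 1, 0; 0, 0, 1] !![0, 0, 0; 0, 0, 0; 0, 0, 1]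
    !![0, 0, 0; 0, 0, 0; 0, 0, 0] !![1, 0, 0; 0, 1, 0; 0, 0, 1]

/-- the transvection in the vector `010001` -/
def T3 : Matrix I6 I6 (ZMod 2) :=
  Matrix.fromBlocks !![1, 0, 0; 0, 1, 1; 0, 0, 1] !![0, 0, 0; 0, 1, 0; 0, 0, 0]
    !![0, 0, 0; 0, 0, 0; 0, 0, 1] !![1, 0, 0; 0, 1, 0; 0, 1, 1]

/-- the transvection in the vector `000110` -/
def T4 : Matrix I6 I6 (ZMod 2) :=
  Matrix.fromBlocks !![1, 0, 0; 0, 1, 0; 0, 0, 1] !![0, 0, 0; 0, 0, 0; 0, 0, 0]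
    !![1, 1, 0; 1, 1, 0; 0, 0, 0] !![1, 0, 0; 0, 1, 0; 0, 0, 1]

/-- the transvection in the vector `100000` -/
def T5 : Matrix I6 I6 (ZMod 2) :=
  Matrix.fromBlocks !![1, 0, 0; 0, 1, 0; 0, 0, 1] !![1, 0, 0; 0, 0, 0; 0, 0, 0]
    !![0, 0, 0; 0, 0, 0; 0, 0, 0] !![1, 0, 0; 0, 1, 0; 0, 0, 1]

/-- the transvection in the vector `000100` -/
def T6 : Matrix I6 I6 (ZMod 2) :=
  Matrix.fromBlocks !![1, 0, 0; 0, 1, 0; 0, 0, 1] !![0, 0, 0; 0, 0, 0; 0, 0, 0]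
    !![1, 0, 0; 0, 0, 0; 0, 0, 0] !![1, 0, 0; 0, 1, 0; 0, 0, 1]

/-- the seven transvections -/
def Tm : Fin 7 → Matrix I6 I6 (ZMod 2) := ![T0, T1, T2, T3, T4, T5, T6]

theorem Tm_mem : ∀ i, Tm i * Matrix.J (Fin 3) (ZMod 2) * (Tm i).transpose = Matrix.J (Fin 3) (ZMod 2) := by
  decide +kernel

/-- the Coxeter matrix of type `E_7` (Mathlib's numbering) as a plain function -/
def cm (i j : Fin 7) : ℕ :=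
  if i = j then 1
  else if (i, j) ∈ ([(0, 2), (2, 0), (1, 3), (3, 1), (2, 3), (3, 2), (3, 4), (4, 3), (4, 5), (5, 4), (5, 6), (6, 5)] :
      List (Fin 7 × Fin 7)) then 3
  else 2

theorem cm_eq (i j : Fin 7) : CoxeterMatrix.E₇ i j = cm i j := by
  fin_cases i <;> fin_cases j <;> rfl

theorem Tm_cox : ∀ i j, (Tm i * Tm j) ^ cm i j = 1 := by
  decide +kernel

/-- product of the `Tm i` along a word -/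
def wordProd (w : List (Fin 7)) : Matrix I6 I6 (ZMod 2) := (w.map Tm).prod

/-- words for the root matrices of type `C_3` -/
def rootWord : I6 → I6 → List (Fin 7)
  | Sum.inl 0, Sum.inl 1 => [1, 4, 5, 4, 6, 5, 4]
  | Sum.inl 0, Sum.inl 2 => [0, 2, 0, 3, 1, 2, 3, 4, 5, 4, 6, 5, 4, 3, 1, 2, 0, 3, 2]
  | Sum.inl 0, Sum.inr 0 => [5]
  | Sum.inl 0, Sum.inr 1 => [0, 1, 2, 0, 3, 1, 2, 0, 3, 2, 6, 5, 4, 3, 1, 2, 0, 3, 2, 4, 3, 1, 5, 6]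
  | Sum.inl 0, Sum.inr 2 => [2, 3, 1, 2, 3, 4, 5, 4, 6, 5, 4, 3, 1, 2, 3]
  | Sum.inl 1, Sum.inl 0 => [0, 1, 2, 0, 3, 1, 2, 0, 3, 2, 4, 3, 1, 2, 0, 3, 2, 4, 3, 1]
  | Sum.inl 1, Sum.inl 2 => [0, 3, 4, 3, 2, 0, 5, 4, 3, 1, 2, 3, 4, 5, 6, 5, 4, 3, 1, 2, 0, 3, 2, 4, 3, 5, 4]
  | Sum.inl 1, Sum.inr 0 => [0, 1, 2, 0, 3, 1, 2, 0, 3, 2, 6, 5, 4, 3, 1, 2, 0, 3, 2, 4, 3, 1, 5, 6]
  | Sum.inl 1, Sum.inr 1 => [4, 3, 2, 0, 5, 4, 3, 1, 2, 3, 4, 5, 6, 5, 4, 3, 1, 2, 0, 3, 2, 4, 3, 5, 4]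
  | Sum.inl 1, Sum.inr 2 => [0, 2, 0, 3, 2, 0, 4, 3, 2, 0, 5, 4, 3, 1, 2, 3, 4, 5, 6, 5, 4, 3, 1, 2, 0, 3, 2, 4, 3, 5, 4]
  | Sum.inl 2, Sum.inl 0 => [2, 3, 1, 2, 3, 4, 3, 1, 2, 3, 6]
  | Sum.inl 2, Sum.inl 1 => [3, 1, 2, 3, 4, 3, 1, 2, 3, 4, 5, 4, 3, 1, 2, 3, 4, 5, 6, 5, 4, 3, 1, 2, 3, 4, 5, 6]
  | Sum.inl 2, Sum.inr 0 => [2, 3, 1, 2, 3, 4, 5, 4, 6, 5, 4, 3, 1, 2, 3]
  | Sum.inl 2, Sum.inr 1 => [0, 2, 0, 3, 2, 0, 4, 3, 2, 0, 5, 4, 3, 1, 2, 3, 4, 5, 6, 5, 4, 3, 1, 2, 0, 3, 2, 4, 3, 5, 4]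
  | Sum.inl 2, Sum.inr 2 => [2]
  | Sum.inr 0, Sum.inl 0 => [6]
  | Sum.inr 0, Sum.inl 1 => [1, 4, 6]
  | Sum.inr 0, Sum.inl 2 => [0, 2, 0, 3, 1, 2, 3, 4, 3, 1, 2, 0, 3, 2, 6]
  | Sum.inr 0, Sum.inr 1 => [0, 1, 2, 0, 3, 1, 2, 0, 3, 2, 4, 3, 1, 2, 0, 3, 2, 4, 3, 1]
  | Sum.inr 0, Sum.inr 2 => [2, 3, 1, 2, 3, 4, 3, 1, 2, 3, 6]
  | Sum.inr 1, Sum.inl 0 => [1, 4, 6]
  | Sum.inr 1, Sum.inl 1 => [1]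
  | Sum.inr 1, Sum.inl 2 => [0, 1, 3, 1, 4, 3, 2, 0, 5, 4, 3, 1, 2, 3, 4, 5, 6, 5, 4, 3, 1, 2, 0, 3, 2, 4, 3, 1, 5, 4, 3]
  | Sum.inr 1, Sum.inr 0 => [1, 4, 5, 4, 6, 5, 4]
  | Sum.inr 1, Sum.inr 2 => [3, 1, 2, 3, 4, 3, 1, 2, 3, 4, 5, 4, 3, 1, 2, 3, 4, 5, 6, 5, 4, 3, 1, 2, 3, 4, 5, 6]
  | Sum.inr 2, Sum.inl 0 => [0, 2, 0, 3, 1, 2, 3, 4, 3, 1, 2, 0, 3, 2, 6]
  | Sum.inr 2, Sum.inl 1 => [0, 1, 3, 1, 4, 3, 2, 0, 5, 4, 3, 1, 2, 3, 4, 5, 6, 5, 4, 3, 1, 2, 0, 3, 2, 4, 3, 1, 5, 4, 3]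
  | Sum.inr 2, Sum.inl 2 => [0]
  | Sum.inr 2, Sum.inr 0 => [0, 2, 0, 3, 1, 2, 3, 4, 5, 4, 6, 5, 4, 3, 1, 2, 0, 3, 2]
  | Sum.inr 2, Sum.inr 1 => [0, 3, 4, 3, 2, 0, 5, 4, 3, 1, 2, 3, 4, 5, 6, 5, 4, 3, 1, 2, 0, 3, 2, 4, 3, 5, 4]
  | _, _ => []

theorem rootWord_spec : ∀ p q : I6, p ≠ q → wordProd (rootWord p q) = spM p q (1 : ZMod 2) := by
  decide +kernel

/-- conjugating words for the non-adjacent pairs -/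
def conjWord : Fin 7 → Fin 7 → List (Fin 7)
  | 0, 1 => []
  | 0, 3 => [3, 1]
  | 0, 4 => [3, 1, 4, 3]
  | 0, 5 => [3, 1, 4, 3, 5, 4]
  | 0, 6 => [3, 1, 4, 3, 5, 4, 6, 5]
  | 1, 2 => [2, 0, 3, 1, 2, 3]
  | 1, 4 => [3, 1, 4, 3, 2, 0, 5, 4, 3, 1, 2, 3, 4, 5]
  | 1, 5 => [3, 1, 4, 3, 2, 0, 5, 4, 3, 1, 2, 3]
  | 1, 6 => [3, 1, 4, 3, 2, 0, 5, 4, 3, 1, 2, 3, 6, 5]
  | 2, 4 => [3, 1, 4, 3, 2, 0]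
  | 2, 5 => [3, 1, 4, 3, 2, 0, 5, 4]
  | 2, 6 => [3, 1, 4, 3, 2, 0, 5, 4, 6, 5]
  | 3, 5 => [3, 1, 4, 3, 2, 0, 5, 4, 3, 2]
  | 3, 6 => [3, 1, 4, 3, 2, 0, 5, 4, 3, 2, 6, 5]
  | 4, 6 => [3, 1, 4, 3, 2, 0, 5, 4, 3, 2, 6, 5, 4, 3]
  | _, _ => []

theorem conjWord_spec : ∀ i j : Fin 7, i < j → cm i j = 2 →
    wordProd (conjWord i j) * Tm i = Tm 0 * wordProd (conjWord i j) ∧
      wordProd (conjWord i j) * Tm j = Tm 1 * wordProd (conjWord i j) := by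
  decide +kernel

end Cfsg.Agent.Helper96.E7
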