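import Mathlib
import Cfsg.Agent.Helper96.E7.Data

/-!
# A Clifford family of type `E_7` in `GL_8(ZMod 3)` (generated by a script)

Seven `8 × 8` matrices `Lm i` over `ZMod 3` (left multiplications by the simple roots of `E_7`,
realised as imaginary unit octonions, reduced mod `3`) with `Lm i ^ 2 = -1`, the braid relation for
adjacent nodes and `Lm i * Lm j = - Lm j * Lm i` for non-adjacent nodes of the `E_7` diagram.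
-/

set_option autoImplicit false
set_option maxRecDepth 100000

namespace Cfsg.Agent.Helper96.E7

/-- Clifford matrix number 0 -/
def L0 : Matrix (Fin 8) (Fin 8) (ZMod 3) :=
  !![0, 2, 0, 0, 0, 0, 0, 0;
      1, 0, 0, 0, 0, 0, 0, 0;
      0, 0, 0, 2, 0, 0, 0, 0;
      0, 0, 1, 0, 0, 0, 0, 0;
      0, 0, 0, 0, 0, 2, 0, 0;
      0, 0, 0, 0, 1, 0, 0, 0;
      0, 0, 0, 0, 0, 0, 0, 1;
      0, 0, 0, 0, 0, 0, 2, 0]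

/-- Clifford matrix number 1 -/
def L1 : Matrix (Fin 8) (Fin 8) (ZMod 3) :=
  !![0, 0, 2, 0, 0, 0, 0, 0;
      0, 0, 0, 1, 0, 0, 0, 0;
      1, 0, 0, 0, 0, 0, 0, 0;
      0, 2, 0, 0, 0, 0, 0, 0;
      0, 0, 0, 0, 0, 0, 2, 0;
      0, 0, 0, 0, 0, 0, 0, 2;
      0, 0, 0, 0, 1, 0, 0, 0;
      0, 0, 0, 0, 0, 1, 0, 0]

/-- Clifford matrix number 2 -/
def L2 : Matrix (Fin 8) (Fin 8) (ZMod 3) :=
  !![0, 2, 0, 1, 1, 1, 0, 0;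
      1, 0, 1, 0, 1, 2, 0, 0;
      0, 2, 0, 2, 0, 0, 2, 2;
      2, 0, 1, 0, 0, 0, 1, 2;
      2, 2, 0, 0, 0, 2, 0, 1;
      2, 1, 0, 0, 1, 0, 2, 0;
      0, 0, 1, 2, 0, 1, 0, 1;
      0, 0, 1, 1, 2, 0, 2, 0]

/-- Clifford matrix number 3 -/
def L3 : Matrix (Fin 8) (Fin 8) (ZMod 3) :=
  !![0, 0, 2, 2, 2, 0, 1, 0;
      0, 0, 2, 1, 0, 1, 0, 1;
      1, 1, 0, 0, 1, 0, 1, 0;
      1, 2, 0, 0, 0, 2, 0, 1;
      1, 0, 2, 0, 0, 0, 2, 2;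
      0, 2, 0, 1, 0, 0, 1, 2;
      2, 0, 2, 0, 1, 2, 0, 0;
      0, 2, 0, 2, 1, 1, 0, 0]

/-- Clifford matrix number 4 -/
def L4 : Matrix (Fin 8) (Fin 8) (ZMod 3) :=
  !![0, 0, 0, 0, 0, 0, 1, 0;
      0, 0, 0, 0, 0, 0, 0, 1;
      0, 0, 0, 0, 1, 0, 0, 0;
      0, 0, 0, 0, 0, 2, 0, 0;
      0, 0, 2, 0, 0, 0, 0, 0;
      0, 0, 0, 1, 0, 0, 0, 0;
      2, 0, 0, 0, 0, 0, 0, 0;
      0, 2, 0, 0, 0, 0, 0, 0]

/-- Clifford matrix number 5 -/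
def L5 : Matrix (Fin 8) (Fin 8) (ZMod 3) :=
  !![0, 0, 0, 1, 0, 2, 1, 1;
      0, 0, 1, 0, 2, 0, 2, 1;
      0, 2, 0, 0, 1, 1, 0, 1;
      2, 0, 0, 0, 1, 2, 2, 0;
      0, 1, 2, 2, 0, 0, 0, 1;
      1, 0, 2, 1, 0, 0, 2, 0;
      2, 1, 0, 1, 0, 1, 0, 0;
      2, 2, 2, 0, 2, 0, 0, 0]

/-- Clifford matrix number 6 -/
def L6 : Matrix (Fin 8) (Fin 8) (ZMod 3) :=
  !![0, 0, 0, 0, 0, 0, 0, 1;
      0, 0, 0, 0, 0, 0, 2, 0;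
      0, 0, 0, 0, 0, 1, 0, 0;
      0, 0, 0, 0, 1, 0, 0, 0;
      0, 0, 0, 2, 0, 0, 0, 0;
      0, 0, 2, 0, 0, 0, 0, 0;
      0, 1, 0, 0, 0, 0, 0, 0;
      2, 0, 0, 0, 0, 0, 0, 0]

/-- the seven Clifford matrices -/
def Lm : Fin 7 → Matrix (Fin 8) (Fin 8) (ZMod 3) := ![L0, L1, L2, L3, L4, L5, L6]

theorem Lm_sq : ∀ i, Lm i * Lm i = -1 := by
  decide +kernel

theorem Lm_braid : ∀ i j, cm i j = 3 → Lm i * Lm j * Lm i = Lm j * Lm i * Lm j := by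
  decide +kernel

theorem Lm_comm : ∀ i j, cm i j = 2 → Lm i * Lm j = -(Lm j * Lm i) := by
  decide +kernel

end Cfsg.Agent.Helper96.E7
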