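import Mathlib
import Cfsg.Agent.Helper96.E7.Data
import Cfsg.Agent.Helper96.E7.Clifford
import Cfsg.Agent.Helper62.StCG2
import Cfsg.Agent.Helper5.SpCard
import Cfsg.Agent.Helper97.StCMult
import Cfsg.Agent.Helper40.CoxData.CoxE7

/-!
# S2093: the concrete part

`G6 = Sp_6(ZMod 2)`, the seven transvections `T i : G6` with the `E_7` Coxeter relations, generating
`G6`, with conjugate non-adjacent pairs; `|W(E_7)| = 2 |G6|`; `G6` is perfect; the Clifford family
in `GL_8(ZMod 3)`.
-/

set_option autoImplicit false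

namespace Cfsg.Agent.Helper96.E7

open Matrix Cfsg.Agent.Helper96.StC Cfsg.Agent.Helper29.StCM

/-- `Sp_6(2)` -/
abbrev G6 : Type := Matrix.symplecticGroup (Fin 3) (ZMod 2)

/-- the seven transvections as elements of `Sp_6(2)` -/
def T (i : Fin 7) : G6 := ⟨Tm i, SymplecticGroup.mem_iff.2 (Tm_mem i)⟩

theorem T_coe (i : Fin 7) : (T i : Matrix I6 I6 (ZMod 2)) = Tm i := rfl

theorem coe_pow_G6 (g : G6) (n : ℕ) : ((g ^ n : G6) : Matrix I6 I6 (ZMod 2)) = (g : Matrix I6 I6 (ZMod 2)) ^ n :=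
  SubmonoidClass.coe_pow g n

theorem T_cox (i j : Fin 7) : (T i * T j) ^ cm i j = 1 := by
  apply Subtype.ext
  rw [coe_pow_G6]
  exact Tm_cox i j

/-- the element of `G6` given by a word -/
def wordG (w : List (Fin 7)) : G6 := (w.map T).prod

theorem wordG_coe (w : List (Fin 7)) : (wordG w : Matrix I6 I6 (ZMod 2)) = wordProd w := by
  induction w with
  | nil => rfl
  | cons a w ih =>
    unfold wordG wordProd at *
    rw [List.map_cons, List.prod_cons, List.map_cons, List.prod_cons]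
    change (T a : Matrix I6 I6 (ZMod 2)) * _ = _
    rw [ih]
    rfl

theorem wordG_mem (w : List (Fin 7)) : wordG w ∈ Subgroup.closure (Set.range T) := by
  unfold wordG
  apply Subgroup.list_prod_mem
  intro x hx
  rw [List.mem_map] at hx
  obtain ⟨i, -, rfl⟩ := hx
  exact Subgroup.subset_closure ⟨i, rfl⟩

theorem T_closure : Subgroup.closure (Set.range T) = ⊤ := by
  rw [eq_top_iff, ← Cfsg.Agent.Helper62.StCG.spT_closure (K := ZMod 2) (m := 3), Subgroup.closure_le]
  rintro g ⟨p, q, hpq, t, rfl⟩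
  have ht : t = 0 ∨ t = 1 := by
    revert t
    decide
  rcases ht with rfl | rfl
  · have : spT p q (0 : ZMod 2) = 1 := by
      apply Subtype.ext
      rw [spT_coe hpq]
      unfold spM
      split_ifs <;> simp
    rw [this]
    exact one_mem _
  · have : spT p q (1 : ZMod 2) = wordG (rootWord p q) := by
      apply Subtype.ext
      rw [spT_coe hpq, wordG_coe, rootWord_spec p q hpq]
    rw [this]
    exact wordG_mem _

theorem T_conj (i j : Fin 7) (hij : i < j) (h2 : cm i j = 2) :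
    ∃ g : G6, g * T i = T 0 * g ∧ g * T j = T 1 * g := by
  obtain ⟨h1, h2⟩ := conjWord_spec i j hij h2
  refine ⟨wordG (conjWord i j), ?_, ?_⟩
  · apply Subtype.ext
    change (wordG (conjWord i j) : Matrix I6 I6 (ZMod 2)) * Tm i = Tm 0 * (wordG (conjWord i j) : Matrix I6 I6 (ZMod 2))
    rw [wordG_coe]
    exact h1
  · apply Subtype.ext
    change (wordG (conjWord i j) : Matrix I6 I6 (ZMod 2)) * Tm j = Tm 1 * (wordG (conjWord i j) : Matrix I6 I6 (ZMod 2))
    rw [wordG_coe]
    exact h2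

theorem card_G6 : Nat.card G6 = 1451520 := by
  rw [Cfsg.Agent.Helper5.card_sp]
  simp [Finset.prod_range_succ, ZMod.card]

theorem card_W : Nat.card CoxeterMatrix.E₇.Group = 2 * Nat.card G6 := by
  rw [card_G6, Cfsg.Agent.Helper40.TCData.card_E7]

theorem perfect_G6 : commutator G6 = ⊤ :=
  Cfsg.Agent.Helper97.StCMult.commutator_sp_eq_top 3 (by norm_num) (by intro h; omega)

/-! ### the Clifford family -/

/-- the Clifford matrices as units -/
def Lu (i : Fin 7) : (Matrix (Fin 8) (Fin 8) (ZMod 3))ˣ :=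
  ⟨Lm i, -Lm i, by rw [mul_neg, Lm_sq, neg_neg], by rw [neg_mul, Lm_sq, neg_neg]⟩

theorem Lu_sq (i : Fin 7) : Lu i * Lu i = -1 := by
  apply Units.ext
  exact Lm_sq i

theorem neg_one_ne_one : (-1 : (Matrix (Fin 8) (Fin 8) (ZMod 3))ˣ) ≠ 1 := by
  intro h
  have := congrArg (fun u : (Matrix (Fin 8) (Fin 8) (ZMod 3))ˣ => (u : Matrix (Fin 8) (Fin 8) (ZMod 3)) 0 0) h
  revert this
  simp only [Units.val_neg, Units.val_one, Matrix.neg_apply, Matrix.one_apply_eq]
  decide

theorem Lu_braid (i j : Fin 7) (h : cm i j = 3) : Lu i * Lu j * Lu i = Lu j * Lu i * Lu j := by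
  apply Units.ext
  exact Lm_braid i j h

theorem Lu_comm (i j : Fin 7) (h : cm i j = 2) : Lu i * Lu j = -1 * (Lu j * Lu i) := by
  apply Units.ext
  rw [Units.val_mul, Units.val_mul, Units.val_neg, Units.val_one, neg_one_mul]
  exact Lm_comm i j h

end Cfsg.Agent.Helper96.E7
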